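import Cfsg.Prelude.Def_SporadicCombinatorics

/-!
# Monomial automorphisms of a code
-/

set_option autoImplicit false

namespace CfsgLib.Monomial

open Cfsg

variable {α F : Type*} [Field F]

/-- The monomial map preserves the code. -/
def Preserves (C : Submodule F (α → F)) (σ : Equiv.Perm α) (c : α → Fˣ) : Prop :=
  ∀ x ∈ C, monomialMap σ c x ∈ C

theorem map_apply (σ : Equiv.Perm α) (c : α → Fˣ) (x : α → F) (i : α) :
    monomialMap σ c x i = (c i : F) * x (σ.symm i) := rfl

theorem symm_one_apply (i : α) : (1 : Equiv.Perm α).symm i = i := rfl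

theorem map_map (σ τ : Equiv.Perm α) (c d : α → Fˣ) (x : α → F) :
    monomialMap σ c (monomialMap τ d x) = monomialMap (σ * τ) (fun i => c i * d (σ.symm i)) x := by
  funext i
  simp only [map_apply, Units.val_mul, mul_assoc]
  rfl

theorem map_add (σ : Equiv.Perm α) (c : α → Fˣ) (x y : α → F) :
    monomialMap σ c (x + y) = monomialMap σ c x + monomialMap σ c y := by
  funext i; simp [map_apply, mul_add]

theorem map_smul (σ : Equiv.Perm α) (c : α → Fˣ) (a : F) (x : α → F) :
    monomialMap σ c (a • x) = a • monomialMap σ c x := by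
  funext i; simp [map_apply, mul_left_comm]

theorem map_sum_smul {κ : Type*} (s : Finset κ) (σ : Equiv.Perm α) (c : α → Fˣ) (a : κ → F)
    (g : κ → α → F) :
    monomialMap σ c (∑ k ∈ s, a k • g k) = ∑ k ∈ s, a k • monomialMap σ c (g k) := by
  funext i; simp [map_apply, Finset.sum_apply, Finset.mul_sum, mul_left_comm]

theorem map_injective (σ : Equiv.Perm α) (c : α → Fˣ) : Function.Injective (monomialMap σ c) := by
  intro x y h
  funext i
  have := congrFun h (σ i)
  simpa [map_apply] using this

variable {C : Submodule F (α → F)}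

theorem preserves_one : Preserves C 1 (1 : α → Fˣ) := fun x hx => by
  have : monomialMap 1 (1 : α → Fˣ) x = x := by funext i; simp [map_apply, symm_one_apply]
  rwa [this]

theorem preserves_const (u : Fˣ) : Preserves C 1 (fun _ => u) := fun x hx => by
  have : monomialMap 1 (fun _ => u) x = (u : F) • x := by funext i; simp [map_apply, symm_one_apply]
  rw [this]; exact C.smul_mem _ hx

theorem Preserves.mul {σ τ : Equiv.Perm α} {c d : α → Fˣ} (h : Preserves C σ c)
    (h' : Preserves C τ d) : Preserves C (σ * τ) (fun i => c i * d (σ.symm i)) := fun x hx => by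
  rw [← map_map]; exact h _ (h' x hx)

variable [Finite α] [Finite F]

theorem Preserves.surj {σ : Equiv.Perm α} {c : α → Fˣ} (h : Preserves C σ c) {y : α → F}
    (hy : y ∈ C) : ∃ x ∈ C, monomialMap σ c x = y := by
  have : Finite C := inferInstance
  have hsurj := Finite.surjective_of_injective (f := fun x : C => (⟨_, h x x.2⟩ : C))
    fun a b hab => Subtype.ext (map_injective σ c (congrArg Subtype.val hab))
  obtain ⟨x, hx⟩ := hsurj ⟨y, hy⟩
  exact ⟨x, x.2, congrArg Subtype.val hx⟩

theorem Preserves.ratio {σ : Equiv.Perm α} {c c' : α → Fˣ} (h : Preserves C σ c)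
    (h' : Preserves C σ c') : Preserves C 1 (fun i => c' i * (c i)⁻¹) := by
  intro y hy
  obtain ⟨x, hx, rfl⟩ := h.surj hy
  have : monomialMap 1 (fun i => c' i * (c i)⁻¹) (monomialMap σ c x) = monomialMap σ c' x := by
    funext i; simp [map_apply, symm_one_apply, mul_assoc]
  rw [this]; exact h' x hx

theorem Preserves.inv {σ : Equiv.Perm α} {c : α → Fˣ} (h : Preserves C σ c) :
    Preserves C σ⁻¹ (fun i => (c (σ i))⁻¹) := by
  intro y hy
  obtain ⟨x, hx, rfl⟩ := h.surj hy
  have : monomialMap σ⁻¹ (fun i => (c (σ i))⁻¹) (monomialMap σ c x) = x := by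
    funext i
    simp only [map_apply, Equiv.Perm.inv_def, Equiv.symm_symm, Equiv.symm_apply_apply,
      Units.inv_mul_cancel_left]
  rwa [this]

/-- The group of permutation parts of monomial automorphisms. -/
def permParts (C : Submodule F (α → F)) : Subgroup (Equiv.Perm α) where
  carrier := {σ | ∃ c : α → Fˣ, Preserves C σ c}
  one_mem' := ⟨1, preserves_one⟩
  mul_mem' := fun ⟨_, h⟩ ⟨_, h'⟩ => ⟨_, h.mul h'⟩
  inv_mem' := fun ⟨_, h⟩ => ⟨_, h.inv⟩

theorem mem_permParts {σ : Equiv.Perm α} : σ ∈ permParts C ↔ ∃ c, Preserves C σ c := Iff.rfl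

theorem coe_permParts :
    (permParts C : Set (Equiv.Perm α)) = {σ | ∃ c : α → Fˣ, Preserves C σ c} := rfl

/-- When the diagonal automorphisms are scalars, the automorphisms are scalars times permutation parts. -/
theorem natCard_automorphisms [Nonempty α]
    (hdiag : ∀ c : α → Fˣ, Preserves C 1 c → ∀ i j, c i = c j) :
    Nat.card {f : Equiv.Perm α × (α → Fˣ) // Preserves C f.1 f.2} =
      Nat.card (permParts C) * Nat.card Fˣ := by
  classical
  choose c₀ hc₀ using fun σ : permParts C => mem_permParts.1 σ.2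
  rw [← Nat.card_prod]
  symm
  refine Nat.card_eq_of_bijective
    (fun p : permParts C × Fˣ => (⟨(p.1.val, fun i => p.2 * c₀ p.1 i), ?_⟩ :
      {f : Equiv.Perm α × (α → Fˣ) // Preserves C f.1 f.2})) ?_
  · have := (preserves_const (C := C) p.2).mul (hc₀ p.1)
    rw [one_mul] at this
    exact this
  constructor
  · rintro ⟨σ, u⟩ ⟨τ, v⟩ h
    have h1 := congrArg (fun p => p.1.1) h
    have h2 := congrArg (fun p => p.1.2) h
    dsimp only at h1 h2
    obtain rfl : σ = τ := Subtype.ext h1
    obtain ⟨i⟩ := ‹Nonempty α›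
    simpa using congrFun h2 i
  · rintro ⟨⟨σ, c⟩, h⟩
    obtain ⟨i₀⟩ := ‹Nonempty α›
    set s : permParts C := ⟨σ, c, h⟩
    refine ⟨(s, c i₀ * (c₀ s i₀)⁻¹), Subtype.ext (Prod.ext rfl (funext fun i => ?_))⟩
    have := hdiag _ ((hc₀ s).ratio h) i₀ i
    show c i₀ * (c₀ s i₀)⁻¹ * c₀ s i = c i
    rw [this, inv_mul_cancel_right]

end CfsgLib.Monomial
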